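import Groth.Agent.NormalLib.KrullAkizuki
import Mathlib.RingTheory.DedekindDomain.Dvr
import Mathlib.RingTheory.IntegralClosure.IntegrallyClosed
import Mathlib.RingTheory.Ideal.GoingUp

/-! # Integral extensions of one-dimensional noetherian domains inside the fraction field -/

set_option autoImplicit false

universe u

namespace NormDimOneLib

variable (R : Type u) [CommRing R] [IsDomain R] [IsNoetherianRing R] [Ring.KrullDimLE 1 R]
  (K : Type u) [Field K] [Algebra R K] [IsFractionRing R K]
  (B : Type u) [CommRing B] [Algebra R B] [Algebra.IsIntegral R B] [Algebra B K] [IsScalarTower R B K]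

instance dimensionLEOne : Ring.DimensionLEOne R :=
  ⟨fun {p} hp hpp => Ring.krullDimLE_one_iff_of_noZeroDivisors.1 inferInstance p hp hpp⟩

variable (hB : Function.Injective (algebraMap B K))

include hB

lemma injective_algebraMap : Function.Injective (algebraMap R B) := fun a b h =>
  IsFractionRing.injective R K (by
    rw [IsScalarTower.algebraMap_apply R B K, h, ← IsScalarTower.algebraMap_apply])

include R in
/-- The integrally closed case is a Dedekind domain. -/
theorem isDedekindDomain [IsIntegrallyClosed B] : IsDedekindDomain B := by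
  haveI : IsDomain B := hB.isDomain
  haveI : IsNoetherianRing B := NormalLib.isNoetherianRing_of_between (R := R) K (L := K) B hB
  haveI : Ring.DimensionLEOne B := Ring.DimensionLEOne.of_isIntegral R B
  exact (isDedekindDomain_iff B (FractionRing B)).2 ⟨inferInstance, inferInstance, inferInstance,
    fun {x} hx => (isIntegrallyClosed_iff (FractionRing B)).1 inferInstance hx⟩

/-- Finitely many primes over a prime. -/
theorem finite_primesOver (m : Ideal R) :
    {Q : Ideal B | Q.IsPrime ∧ Q.comap (algebraMap R B) = m}.Finite := by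
  haveI : IsDomain B := hB.isDomain
  by_cases hm : m = ⊥
  · refine (Set.finite_singleton (⊥ : Ideal B)).subset fun Q hQ => ?_
    have := hQ.1
    exact Ideal.eq_bot_of_comap_eq_bot (R := R) (hQ.2.trans hm)
  obtain ⟨x, hxm, hx⟩ := Submodule.exists_mem_ne_zero_of_ne_bot hm
  have hfl := NormalLib.isFiniteLength_quot (R := R) K (L := K) B hB hx
  let J : Ideal B := Ideal.span {algebraMap R B x}
  have hJ : (Ideal.span {x} • ⊤ : Submodule R B) = J.restrictScalars R := by
    rw [Ideal.smul_top_eq_map, Ideal.map_span, Set.image_singleton]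
  let e : (B ⧸ (Ideal.span {x} • ⊤ : Submodule R B)) ≃ₗ[R] B ⧸ J :=
    (Submodule.quotEquivOfEq _ _ hJ).trans (Submodule.Quotient.restrictScalarsEquiv R J)
  have := (isFiniteLength_iff_isNoetherian_isArtinian.1 hfl).2
  haveI : IsArtinian R (B ⧸ J) := isArtinian_of_linearEquiv e
  haveI : IsArtinianRing (B ⧸ J) := isArtinian_of_tower R (inferInstance : IsArtinian R (B ⧸ J))
  refine (Set.finite_range fun P : PrimeSpectrum (B ⧸ J) => P.asIdeal.comap (Ideal.Quotient.mk J)).subset ?_
  rintro Q ⟨hQ, hQm⟩
  have hJQ : J ≤ Q := (Ideal.span_singleton_le_iff_mem _).2 (by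
    show x ∈ Q.comap (algebraMap R B)
    rw [hQm]; exact hxm)
  refine ⟨⟨Q.map (Ideal.Quotient.mk J), Ideal.map_isPrime_of_surjective Ideal.Quotient.mk_surjective
    (by rwa [Ideal.mk_ker])⟩, ?_⟩
  show (Q.map (Ideal.Quotient.mk J)).comap (Ideal.Quotient.mk J) = Q
  rw [Ideal.comap_map_of_surjective _ Ideal.Quotient.mk_surjective, ← RingHom.ker_eq_comap_bot, Ideal.mk_ker,
    sup_eq_left.2 hJQ]

/-- Finitely many generators of the residue extension. -/
theorem exists_span_mod (Q : Ideal B) [Q.IsPrime] :
    ∃ T : Finset B, ∀ b : B, ∃ s : R, algebraMap R B s ∉ Q ∧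
      algebraMap R B s * b ∈ Submodule.span R (T : Set B) ⊔ Q.restrictScalars R := by
  classical
  haveI : IsDomain B := hB.isDomain
  by_cases hQ : Q = ⊥
  · refine ⟨{1}, fun b => ?_⟩
    obtain ⟨a, s, hs, h⟩ := IsFractionRing.div_surjective R (algebraMap B K b)
    refine ⟨s, fun hmem => ?_, Submodule.mem_sup_left ?_⟩
    · rw [hQ, Submodule.mem_bot] at hmem
      exact nonZeroDivisors.ne_zero hs (injective_algebraMap R K B hB (hmem.trans (map_zero _).symm))
    · have : algebraMap R B s * b = algebraMap R B a := by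
        apply hB
        rw [map_mul, ← IsScalarTower.algebraMap_apply, ← IsScalarTower.algebraMap_apply, ← h, mul_div_assoc',
          mul_div_cancel_left₀]
        exact IsFractionRing.to_map_ne_zero_of_mem_nonZeroDivisors hs
      rw [this, Finset.coe_singleton, Submodule.mem_span_singleton]
      exact ⟨a, by rw [Algebra.smul_def, mul_one]⟩
  · obtain ⟨x, hx, hxQ⟩ := NormalLib.exists_algebraMap_mem (R := R) K (L := K) B hB hQ
    have hfl := NormalLib.isFiniteLength_quot (R := R) K (L := K) B hB hx
    have : IsNoetherian R (B ⧸ (Ideal.span {x} • ⊤ : Submodule R B)) :=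
      (isFiniteLength_iff_isNoetherian_isArtinian.1 hfl).1
    obtain ⟨S, hS⟩ := IsNoetherian.noetherian (⊤ : Submodule R (B ⧸ (Ideal.span {x} • ⊤ : Submodule R B)))
    choose l hl using Submodule.mkQ_surjective (Ideal.span {x} • ⊤ : Submodule R B)
    refine ⟨S.image l, fun b => ⟨1, ?_, ?_⟩⟩
    · rw [map_one]; exact fun h => (Ideal.IsPrime.ne_top ‹_›) ((Ideal.eq_top_iff_one Q).2 h)
    rw [map_one, one_mul]
    have hb : Submodule.mkQ (Ideal.span {x} • ⊤ : Submodule R B) b ∈
        (Submodule.span R ((S.image l : Finset B) : Set B)).map (Submodule.mkQ _) := by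
      rw [Submodule.map_span, Finset.coe_image, ← Set.image_comp]
      rw [show (Submodule.mkQ (Ideal.span {x} • ⊤ : Submodule R B)) ∘ l = id from funext hl, Set.image_id, hS]
      trivial
    obtain ⟨c, hc, hcb⟩ := hb
    have hle : (Ideal.span {x} • ⊤ : Submodule R B) ≤ Q.restrictScalars R := by
      rw [Ideal.smul_top_eq_map, Ideal.map_span, Set.image_singleton]
      exact (Ideal.span_singleton_le_iff_mem _).2 hxQ
    rw [show b = c + (b - c) by ring]
    exact Submodule.add_mem_sup hc (hle ((Submodule.Quotient.eq _).1 hcb.symm))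

end NormDimOneLib
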