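import Groth.Prelude.Def_Curv2
import Groth.Agent.NormFin.CurveNormalization
import Groth.Agent.NormDimOneLib.Alg
import Groth.Agent.SDivLib.Stalk

/-! # Charts of the normalization of a one-dimensional locally noetherian integral scheme -/

set_option autoImplicit false

universe u

open CategoryTheory AlgebraicGeometry TopologicalSpace

namespace NormDimOneLib

variable (X : Scheme.{u}) [IsIntegral X] [QuasiCompact (X.fromSpecStalk (genericPoint X))]
  [QuasiSeparated (X.fromSpecStalk (genericPoint X))]

/-- The chart ring inside the function field. -/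
theorem exists_chart (U : X.affineOpens) [Nonempty U.1] :
    ∃ ψ : Γ(Curv2.normalization X, Curv2.normalizationι X ⁻¹ᵁ U.1) →+* X.functionField,
      Function.Injective ψ ∧
      (∀ a, ψ (((Curv2.normalizationι X).app U.1).hom a) = (X.germToFunctionField U.1).hom a) ∧
      IsIntegrallyClosed Γ(Curv2.normalization X, Curv2.normalizationι X ⁻¹ᵁ U.1) ∧
      ∀ z : X.functionField, (letI := (X.germToFunctionField U.1).hom.toAlgebra; IsIntegral Γ(X, U.1) z) →
        z ∈ Set.range ψ := by
  let g := X.fromSpecStalk (genericPoint X)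
  obtain ⟨e, he⟩ := NormFinLib.exists_chart_equiv X.functionField (RingHom.id _) g
    (by rw [CommRingCat.ofHom_id, Spec.map_id, Category.id_comp]) U.1 U.2
  let M := Γ(Spec (CommRingCat.of X.functionField), g ⁻¹ᵁ U.1)
  letI : Algebra Γ(X, U.1) M := (g.app U.1).hom.toAlgebra
  letI : Algebra Γ(X, U.1) X.functionField := (X.germToFunctionField U.1).hom.toAlgebra
  let ea : M ≃ₐ[Γ(X, U.1)] X.functionField := AlgEquiv.ofRingEquiv (f := e) he
  let ed := ea.mapIntegralClosure
  let i : Γ(Curv2.normalization X, Curv2.normalizationι X ⁻¹ᵁ U.1) ≅ CommRingCat.of (integralClosure Γ(X, U.1) M) :=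
    g.normalizationObjIso U.2
  let E := i.commRingCatIsoToRingEquiv.trans ed.toRingEquiv
  refine ⟨(integralClosure Γ(X, U.1) X.functionField).val.toRingHom.comp E.toRingHom,
    Subtype.val_injective.comp E.injective, fun a => ?_, ?_, fun z hz => ⟨E.symm ⟨z, hz⟩, congrArg Subtype.val (E.apply_symm_apply _)⟩⟩
  · have h1 : (Curv2.normalizationι X).app U.1 =
        CommRingCat.ofHom (algebraMap Γ(X, U.1) (integralClosure Γ(X, U.1) M)) ≫ i.inv :=
      g.fromNormalization_app U.2
    have h2 : E (((Curv2.normalizationι X).app U.1).hom a) = ed (algebraMap Γ(X, U.1) (integralClosure Γ(X, U.1) M) a) := by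
      rw [h1]
      show ed (i.hom.hom (i.inv.hom _)) = _
      rw [← CommRingCat.comp_apply, i.inv_hom_id]
      rfl
    show ((E (((Curv2.normalizationι X).app U.1).hom a) : integralClosure Γ(X, U.1) X.functionField) : X.functionField) = _
    rw [h2, ed.commutes]
    rfl
  · haveI : IsFractionRing Γ(X, U.1) X.functionField := functionField_isFractionRing_of_isAffineOpen X _ U.2
    haveI : IsIntegrallyClosed (integralClosure Γ(X, U.1) X.functionField) :=
      integralClosure.isIntegrallyClosedOfFiniteExtension X.functionField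
    exact IsIntegrallyClosed.of_equiv E.symm

variable [IsLocallyNoetherian X]

theorem krullDimLE (hdim : topologicalKrullDim X = 1) (U : X.affineOpens) : Ring.KrullDimLE 1 Γ(X, U.1) := by
  rw [Ring.krullDimLE_iff, ← PrimeSpectrum.topologicalKrullDim_eq_ringKrullDim, Nat.cast_one, ← hdim]
  exact U.2.fromSpec.isOpenEmbedding.isInducing.topologicalKrullDim_le

/-- Everything one needs about a chart. -/
theorem chart_spec (hdim : topologicalKrullDim X = 1) (U : X.affineOpens) [Nonempty U.1] :
    IsDedekindDomain Γ(Curv2.normalization X, Curv2.normalizationι X ⁻¹ᵁ U.1) ∧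
    (∀ m : Ideal Γ(X, U.1), {Q : Ideal Γ(Curv2.normalization X, Curv2.normalizationι X ⁻¹ᵁ U.1) |
      Q.IsPrime ∧ Q.comap ((Curv2.normalizationι X).app U.1).hom = m}.Finite) ∧
    ∀ (Q : Ideal Γ(Curv2.normalization X, Curv2.normalizationι X ⁻¹ᵁ U.1)) [Q.IsPrime],
      letI := ((Curv2.normalizationι X).app U.1).hom.toAlgebra
      ∃ T : Finset Γ(Curv2.normalization X, Curv2.normalizationι X ⁻¹ᵁ U.1), ∀ b, ∃ s : Γ(X, U.1),
        ((Curv2.normalizationι X).app U.1).hom s ∉ Q ∧ ((Curv2.normalizationι X).app U.1).hom s * b ∈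
          Submodule.span Γ(X, U.1) (T : Set Γ(Curv2.normalization X, Curv2.normalizationι X ⁻¹ᵁ U.1)) ⊔
            Q.restrictScalars Γ(X, U.1) := by
  obtain ⟨ψ, hψ, hψa, hclosed, -⟩ := exists_chart X U
  haveI : IsNoetherianRing Γ(X, U.1) := IsLocallyNoetherian.component_noetherian U
  haveI := krullDimLE X hdim U
  letI : Algebra Γ(X, U.1) X.functionField := (X.germToFunctionField U.1).hom.toAlgebra
  haveI : IsFractionRing Γ(X, U.1) X.functionField := functionField_isFractionRing_of_isAffineOpen X _ U.2
  letI := ((Curv2.normalizationι X).app U.1).hom.toAlgebra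
  letI := ψ.toAlgebra
  haveI : IsScalarTower Γ(X, U.1) Γ(Curv2.normalization X, Curv2.normalizationι X ⁻¹ᵁ U.1) X.functionField :=
    IsScalarTower.of_algebraMap_eq fun a => (hψa a).symm
  haveI : IsIntegralHom (Curv2.normalizationι X) :=
    inferInstanceAs (IsIntegralHom (X.fromSpecStalk (genericPoint X)).fromNormalization)
  haveI : Algebra.IsIntegral Γ(X, U.1) Γ(Curv2.normalization X, Curv2.normalizationι X ⁻¹ᵁ U.1) :=
    ⟨(Curv2.normalizationι X).isIntegral_app U.1 U.2⟩
  exact ⟨isDedekindDomain Γ(X, U.1) X.functionField _ hψ, finite_primesOver Γ(X, U.1) X.functionField _ hψ,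
    fun Q _ => exists_span_mod Γ(X, U.1) X.functionField _ hψ Q⟩

end NormDimOneLib
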