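import Groth.Prelude.Def_Curv2
import Groth.Agent.NormDimOneLib.Chart
import Groth.Agent.FlatLib.QStalk
import Groth.Agent.DevissLib.Stalk
import Groth.Agent.QCohLib.Push

/-! # `ν_* O / O` for the normalization of an integral scheme -/

set_option autoImplicit false

universe u

open CategoryTheory CategoryTheory.Limits AlgebraicGeometry TopologicalSpace

namespace NormDimOneLib

variable (X : Scheme.{u}) [IsIntegral X] [QuasiCompact (X.fromSpecStalk (genericPoint X))]
  [QuasiSeparated (X.fromSpecStalk (genericPoint X))]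

noncomputable abbrev nuO : X.Modules :=
  (Scheme.Modules.pushforward (Curv2.normalizationι X)).obj (Coh.structureModule (Curv2.normalization X))

theorem isIntegralHom_normalizationι : IsIntegralHom (Curv2.normalizationι X) :=
  inferInstanceAs (IsIntegralHom (X.fromSpecStalk (genericPoint X)).fromNormalization)

theorem isQCoh_nuO : Coh.IsQCoh (nuO X) :=
  haveI := isIntegralHom_normalizationι X
  haveI : Coh.IsQCoh (Coh.structureModule (Curv2.normalization X)) := QCohLib.isQCoh_unit
  QCohLib.isQCoh_pushforward _ _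

theorem app_injective (U : X.Opens) :
    Function.Injective ((Curv2.normalizationι X).app U).hom := by
  intro a b hab
  by_cases hne : Nonempty U
  · obtain ⟨⟨p, hp⟩⟩ := hne
    obtain ⟨V, hV, hpV, hVU⟩ := exists_isAffineOpen_mem_and_subset hp
    haveI : Nonempty V := ⟨⟨p, hpV⟩⟩
    obtain ⟨ψ, -, hψa, -, -⟩ := exists_chart X ⟨V, hV⟩
    apply germ_injective_of_isIntegral X p hp
    rw [← TopCat.Presheaf.germ_res_apply X.presheaf (homOfLE hVU) p hpV a,
      ← TopCat.Presheaf.germ_res_apply X.presheaf (homOfLE hVU) p hpV b]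
    refine congrArg _ (Scheme.germToFunctionField_injective X V ?_)
    show (X.germToFunctionField V).hom _ = (X.germToFunctionField V).hom _
    rw [← hψa, ← hψa]
    have nat : ∀ c : Γ(X, U), ((Curv2.normalizationι X).app V).hom (X.presheaf.map (homOfLE hVU).op c) =
        (Curv2.normalization X).presheaf.map ((Opens.map (Curv2.normalizationι X).base).map (homOfLE hVU)).op
          (((Curv2.normalizationι X).app U).hom c) := fun c =>
      congr($((Curv2.normalizationι X).naturality (homOfLE hVU).op) c)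
    exact congrArg ψ ((nat a).trans ((congrArg _ hab).trans (nat b).symm))
  · refine TopCat.Sheaf.eq_of_locally_eq' X.sheaf (fun i : Empty => i.elim) U (fun i => i.elim) ?_ a b fun i => i.elim
    intro p hp
    exact absurd ⟨⟨p, hp⟩⟩ hne

theorem mono_unitToPush : Mono (ClSub.unitToPush (Curv2.normalizationι X)) :=
  ⟨fun g h e => Scheme.Modules.hom_ext _ _ fun U => by
    ext s
    apply app_injective X U
    exact congr($(congrArg (fun t => Scheme.Modules.Hom.app t U) e) s)⟩

theorem exists_stalkMap (U : X.affineOpens) {x : X} (hx : x ∈ U.1) :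
    ∃ Λ : (DevissLib.St x).obj (nuO X) →ₗ[X.presheaf.stalk x] X.functionField,
      Function.Injective Λ ∧ (∀ a, IsIntegral (X.presheaf.stalk x) (Λ a)) ∧
      (∀ z, IsIntegral (X.presheaf.stalk x) z → z ∈ Set.range Λ) ∧
      LinearMap.range (Λ ∘ₗ ((DevissLib.St x).map (ClSub.unitToPush (Curv2.normalizationι X))).hom) =
        LinearMap.range (Algebra.linearMap (X.presheaf.stalk x) X.functionField) := by
  haveI : Nonempty U.1 := ⟨⟨x, hx⟩⟩
  haveI := isIntegralHom_normalizationι X
  haveI := isQCoh_nuO X
  obtain ⟨ψ, hψ, hψa, -, hψr⟩ := exists_chart X U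
  let p := (U.2.primeIdealOf ⟨x, hx⟩).asIdeal
  letI : Algebra Γ(X, U.1) (X.presheaf.stalk x) := (X.presheaf.germ U.1 x hx).hom.toAlgebra
  haveI hloc : IsLocalization.AtPrime (X.presheaf.stalk x) p := U.2.isLocalization_stalk ⟨x, hx⟩
  letI : Algebra Γ(X, U.1) X.functionField := (X.germToFunctionField U.1).hom.toAlgebra
  haveI : IsScalarTower Γ(X, U.1) (X.presheaf.stalk x) X.functionField :=
    IsScalarTower.of_algebraMap_eq fun r => (X.algebraMap_germ_eq_germToFunctionField hx r).symm
  letI : Module Γ(X, U.1) ((DevissLib.St x).obj (nuO X)) :=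
    Module.compHom _ (X.presheaf.germ U.1 x hx).hom
  haveI : IsScalarTower Γ(X, U.1) (X.presheaf.stalk x) ((DevissLib.St x).obj (nuO X)) :=
    IsScalarTower.of_algebraMap_smul fun _ _ => rfl
  let f : Γ(nuO X, U.1) →ₗ[Γ(X, U.1)] (DevissLib.St x).obj (nuO X) :=
    { toFun := fun m => DevissLib.gm (nuO X) x hx m
      map_add' := fun _ _ => map_add _ _ _
      map_smul' := fun r m => DevissLib.gm_smul (nuO X) x hx r m }
  haveI hf : IsLocalizedModule p.primeCompl f := FlatLib.isLocalizedModule_germLin (nuO X) U.2 hx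
  let g : Γ(nuO X, U.1) →ₗ[Γ(X, U.1)] X.functionField :=
    { toFun := fun m => ψ m
      map_add' := fun a b => map_add ψ a b
      map_smul' := fun r m => by
        exact (map_mul ψ (((Curv2.normalizationι X).app U.1).hom r) m).trans
          (congrArg (fun t => t * ψ m) (hψa r)) }
  have hu : ∀ s : p.primeCompl, IsUnit (algebraMap Γ(X, U.1) X.functionField s) := fun s => by
    rw [IsScalarTower.algebraMap_apply Γ(X, U.1) (X.presheaf.stalk x) X.functionField]
    exact (IsLocalization.map_units (X.presheaf.stalk x) s).map _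
  have hunit : ∀ s : p.primeCompl, IsUnit (algebraMap Γ(X, U.1) (Module.End Γ(X, U.1) X.functionField) s) := by
    intro s
    rw [Module.End.isUnit_iff]
    refine ⟨fun a b h => mul_left_cancel₀ (hu s).ne_zero ?_,
      fun b => ⟨(algebraMap Γ(X, U.1) X.functionField s)⁻¹ * b, ?_⟩⟩
    · replace h : (s : Γ(X, U.1)) • a = (s : Γ(X, U.1)) • b := h
      rwa [Algebra.smul_def, Algebra.smul_def] at h
    · show (s : Γ(X, U.1)) • ((algebraMap Γ(X, U.1) X.functionField s)⁻¹ * b) = b
      exact (Algebra.smul_def _ _).trans (mul_inv_cancel_left₀ (hu s).ne_zero b)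
  let L0 := IsLocalizedModule.lift p.primeCompl f g hunit
  let Λ := L0.extendScalarsOfIsLocalization p.primeCompl (X.presheaf.stalk x)
  have hΛ : ∀ m, Λ (f m) = ψ m := fun m => IsLocalizedModule.lift_apply p.primeCompl f g hunit m
  have key : ∀ a, ∃ (m : Γ(nuO X, U.1)) (s : p.primeCompl),
      (s : Γ(X, U.1)) • a = f m ∧ algebraMap Γ(X, U.1) X.functionField s * Λ a = ψ m := fun a => by
    obtain ⟨⟨m, s⟩, hms⟩ := IsLocalizedModule.surj p.primeCompl f a
    refine ⟨m, s, hms, ?_⟩
    rw [← Algebra.smul_def, ← hΛ, ← hms]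
    exact (L0.map_smul _ _).symm
  have hint : ∀ m : Γ(nuO X, U.1), IsIntegral Γ(X, U.1) (ψ m) := fun m => by
    letI := ((Curv2.normalizationι X).app U.1).hom.toAlgebra
    letI := ψ.toAlgebra
    haveI : IsScalarTower Γ(X, U.1) Γ(Curv2.normalization X, Curv2.normalizationι X ⁻¹ᵁ U.1) X.functionField :=
      IsScalarTower.of_algebraMap_eq fun a => (hψa a).symm
    have h1 : IsIntegral Γ(X, U.1)
        (show Γ(Curv2.normalization X, Curv2.normalizationι X ⁻¹ᵁ U.1) from m) :=
      (Curv2.normalizationι X).isIntegral_app U.1 U.2 m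
    exact h1.algebraMap
  refine ⟨Λ, ?_, fun a => ?_, fun z hz => ?_, ?_⟩
  · rw [← LinearMap.ker_eq_bot, Submodule.eq_bot_iff]
    intro a ha
    obtain ⟨m, s, hs, hm⟩ := key a
    rw [LinearMap.mem_ker.mp ha, mul_zero] at hm
    have hm0 : m = 0 := hψ (hm.symm.trans (map_zero ψ).symm)
    rw [hm0, map_zero] at hs
    refine ((Module.End.isUnit_iff _).mp (IsLocalizedModule.map_units f s)).injective ?_
    show (s : Γ(X, U.1)) • a = (s : Γ(X, U.1)) • 0
    rw [hs, smul_zero]
  · obtain ⟨m, s, -, hm⟩ := key a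
    obtain ⟨v, hv⟩ := IsLocalization.map_units (X.presheaf.stalk x) s
    have h2 : Λ a = algebraMap (X.presheaf.stalk x) X.functionField ↑v⁻¹ * ψ m := by
      rw [← hm, IsScalarTower.algebraMap_apply Γ(X, U.1) (X.presheaf.stalk x) X.functionField, ← hv,
        ← mul_assoc, ← map_mul, Units.inv_mul, map_one, one_mul]
    rw [h2]
    exact isIntegral_algebraMap.mul (hint m).tower_top
  · obtain ⟨s, hs⟩ := IsIntegral.exists_multiple_integral_of_isLocalization p.primeCompl z hz
    obtain ⟨m, hm⟩ := hψr _ hs
    obtain ⟨v, hv⟩ := IsLocalization.map_units (X.presheaf.stalk x) s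
    refine ⟨(↑v⁻¹ : X.presheaf.stalk x) • f m, ?_⟩
    rw [map_smul, hΛ, hm]
    show (↑v⁻¹ : X.presheaf.stalk x) • ((s : Γ(X, U.1)) • z) = z
    rw [← IsScalarTower.algebraMap_smul (X.presheaf.stalk x) (s : Γ(X, U.1)) z, ← hv, ← mul_smul,
      Units.inv_mul, one_smul]
  · have hone : ∀ c, ∃ b : (DevissLib.St x).obj (Coh.structureModule X),
        Λ (((DevissLib.St x).map (ClSub.unitToPush (Curv2.normalizationι X))).hom b) =
          algebraMap (X.presheaf.stalk x) X.functionField c := fun c => by
      refine ⟨c • DevissLib.gm (Coh.structureModule X) x hx (1 : Γ(X, U.1)), ?_⟩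
      have h1 : Λ (((DevissLib.St x).map (ClSub.unitToPush (Curv2.normalizationι X))).hom
          (DevissLib.gm (Coh.structureModule X) x hx (1 : Γ(X, U.1)))) = 1 := by
        rw [DevissLib.gm_app]
        refine (hΛ _).trans ?_
        show ψ (((Curv2.normalizationι X).app U.1).hom 1) = 1
        rw [map_one, map_one]
      rw [map_smul, map_smul, h1, Algebra.smul_def, mul_one]
    apply le_antisymm
    · rintro _ ⟨b, rfl⟩
      obtain ⟨W, hxW, r, rfl⟩ := DevissLib.exists_gm_eq _ x b
      have hb : ∀ r : Γ(X, W), DevissLib.gm (Coh.structureModule X) x hxW r = X.presheaf.germ W x hxW r •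
          DevissLib.gm (Coh.structureModule X) x hx (1 : Γ(X, U.1)) := fun r => by
        have e1 : DevissLib.gm (Coh.structureModule X) x hxW (r * 1 : Γ(X, W)) = X.presheaf.germ W x hxW r •
            DevissLib.gm (Coh.structureModule X) x hxW (1 : Γ(X, W)) :=
          DevissLib.gm_smul (Coh.structureModule X) x hxW r (1 : Γ(X, W))
        have e2 : DevissLib.gm (Coh.structureModule X) x hxW (1 : Γ(X, W)) =
            DevissLib.gm (Coh.structureModule X) x hx (1 : Γ(X, U.1)) := by
          rw [← DevissLib.gm_map (Coh.structureModule X) (inf_le_left : W ⊓ U.1 ≤ W) x ⟨hxW, hx⟩,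
            ← DevissLib.gm_map (Coh.structureModule X) (inf_le_right : W ⊓ U.1 ≤ U.1) x ⟨hxW, hx⟩]
          exact congrArg _ ((map_one (X.presheaf.map _).hom).trans (map_one (X.presheaf.map _).hom).symm)
        rw [← e2, ← e1]
        exact congrArg _ (mul_one r).symm
      refine ⟨X.presheaf.germ W x hxW (show Γ(X, W) from r), ?_⟩
      have h1 : Λ (((DevissLib.St x).map (ClSub.unitToPush (Curv2.normalizationι X))).hom
          (DevissLib.gm (Coh.structureModule X) x hx (1 : Γ(X, U.1)))) = 1 := by
        rw [DevissLib.gm_app]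
        refine (hΛ _).trans ?_
        show ψ (((Curv2.normalizationι X).app U.1).hom 1) = 1
        rw [map_one, map_one]
      show _ = (Λ ∘ₗ _) (DevissLib.gm (Coh.structureModule X) x hxW (show Γ(X, W) from r))
      rw [LinearMap.comp_apply, hb, map_smul, map_smul, h1, Algebra.linearMap_apply, Algebra.smul_def, mul_one]
    · rintro _ ⟨c, rfl⟩
      obtain ⟨b, hb⟩ := hone c
      exact ⟨b, hb⟩

omit [IsIntegral X] [QuasiCompact (X.fromSpecStalk (genericPoint X))]
  [QuasiSeparated (X.fromSpecStalk (genericPoint X))] in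
theorem length_cokernel {A B : X.Modules} (φ : A ⟶ B) (x : X) :
    Module.length (X.presheaf.stalk x) ((cokernel φ).presheaf.stalk x) =
      Module.length (X.presheaf.stalk x) ((DevissLib.St x).obj B ⧸ LinearMap.range ((DevissLib.St x).map φ).hom) := by
  let π := ((DevissLib.St x).map (cokernel.π φ)).hom
  have hsurj : Function.Surjective π := (ModuleCat.epi_iff_surjective _).mp inferInstance
  have hex : ((ShortComplex.mk φ (cokernel.π φ) (cokernel.condition φ)).map (DevissLib.St x)).Exact :=
    (ShortComplex.exact_of_g_is_cokernel _ (cokernelIsCokernel φ)).map _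
  have hker : LinearMap.range ((DevissLib.St x).map φ).hom = LinearMap.ker π := hex.moduleCat_range_eq_ker
  show Module.length (X.presheaf.stalk x) ((DevissLib.St x).obj (cokernel φ)) = _
  exact (((Submodule.quotEquivOfEq _ _ hker).trans (π.quotKerEquivOfSurjective hsurj)).length_eq).symm

end NormDimOneLib
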